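import Mathlib

/-!
Rewriting of words in involutions along Coxeter relations, checked by evaluation, with the two
rewriting sequences that are needed for the spider relation.
-/

set_option autoImplicit false
set_option maxRecDepth 20000

namespace Cfsg.Agent.Lib.Spider

/-- Apply a checked list of replacements `(position, old, new)` to a word. -/
def applySteps (RL : List (List ℕ)) : List (ℕ × List ℕ × List ℕ) → List ℕ → Option (List ℕ)
  | [], l => some l
  | (p, o, n) :: r, l =>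
    if (l.drop p).take o.length = o ∧ o ++ n.reverse ∈ RL ∧ ∀ g ∈ n, [g, g] ∈ RL then
      applySteps RL r (l.take p ++ n ++ l.drop (p + o.length))
    else none

theorem prod_reverse_inv {G : Type*} [Group G] (v : ℕ → G) :
    ∀ l : List ℕ, (∀ g ∈ l, v g * v g = 1) → (l.reverse.map v).prod = (l.map v).prod⁻¹
  | [], _ => by simp
  | g :: l, h => by
    rw [List.reverse_cons, List.map_append, List.prod_append,
      prod_reverse_inv v l fun x hx => h x (List.mem_cons_of_mem _ hx), List.map_cons, List.map_nil,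
      List.prod_singleton, List.map_cons, List.prod_cons, mul_inv_rev,
      inv_eq_of_mul_eq_one_right (h g List.mem_cons_self)]

theorem applySteps_sound {G : Type*} [Group G] (v : ℕ → G) (RL : List (List ℕ))
    (hRL : ∀ l ∈ RL, (l.map v).prod = 1) :
    ∀ (s : List (ℕ × List ℕ × List ℕ)) (l l' : List ℕ), applySteps RL s l = some l' →
      (l.map v).prod = (l'.map v).prod := by
  intro s
  induction s with
  | nil => intro l l' h; cases h; rfl
  | cons a r ih =>
    intro l l' h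
    obtain ⟨p, o, n⟩ := a
    simp only [applySteps] at h
    split at h
    · rename_i hc
      obtain ⟨h1, h2, h3⟩ := hc
      rw [← ih _ _ h]
      have hon : (o.map v).prod = (n.map v).prod := by
        have := hRL _ h2
        rw [List.map_append, List.prod_append, prod_reverse_inv v n (fun g hg => by
          simpa using hRL _ (h3 g hg))] at this
        exact mul_inv_eq_one.1 this
      conv_lhs => rw [← List.take_append_drop p l, ← List.take_append_drop o.length (l.drop p), h1,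
        List.drop_drop]
      simp only [List.map_append, List.prod_append, hon, mul_assoc]
    · exact absurd h (by simp)

/-- Coxeter relators of the diagram Y222: 0 is the centre, the arms are 1-2, 3-4 and 5-6. -/
def relsSeven : List (List ℕ) := [[0, 0], [0, 1, 0, 1, 0, 1], [0, 2, 0, 2], [0, 3, 0, 3, 0, 3], [0, 4, 0, 4], [0, 5, 0, 5, 0, 5], [0, 6, 0, 6], [1, 1], [1, 0, 1, 0, 1, 0], [1, 2, 1, 2, 1, 2], [1, 3, 1, 3], [1, 4, 1, 4], [1, 5, 1, 5], [1, 6, 1, 6], [2, 2], [2, 0, 2, 0], [2, 1, 2, 1, 2, 1], [2, 3, 2, 3], [2, 4, 2, 4], [2, 5, 2, 5], [2, 6, 2, 6], [3, 3], [3, 0, 3, 0, 3, 0], [3, 1, 3, 1], [3, 2, 3, 2], [3, 4, 3, 4, 3, 4], [3, 5, 3, 5], [3, 6, 3, 6], [4, 4], [4, 0, 4, 0], [4, 1, 4, 1], [4, 2, 4, 2], [4, 3, 4, 3, 4, 3], [4, 5, 4, 5], [4, 6, 4, 6], [5, 5], [5, 0, 5, 0, 5, 0], [5, 1, 5, 1], [5, 2, 5, 2], [5, 3, 5, 3], [5, 4, 5, 4], [5, 6, 5, 6, 5, 6], [6, 6], [6, 0, 6, 0], [6, 1, 6, 1], [6, 2, 6, 2], [6, 3, 6, 3], [6, 4, 6, 4], [6, 5, 6, 5, 6, 5]]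

/-- From the reversed spider word to the spider word with two arms exchanged. -/
def swapSteps : List (ℕ × List ℕ × List ℕ) := [(0, [5, 6, 5], [6, 5, 6]),
    (2, [6, 4], [4, 6]),
    (3, [6, 2], [2, 6]),
    (4, [6, 6], []),
    (1, [5, 4], [4, 5]),
    (2, [5, 2], [2, 5]),
    (3, [5, 5], []),
    (1, [4, 2], [2, 4]),
    (2, [4, 0], [0, 4]),
    (3, [4, 4], []),
    (1, [2, 0], [0, 2]),
    (2, [2, 3], [3, 2]),
    (3, [2, 0], [0, 2]),
    (4, [2, 2], []),
    (0, [6, 0], [0, 6]),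
    (1, [6, 3], [3, 6]),
    (2, [6, 0], [0, 6]),
    (3, [6, 1], [1, 6]),
    (4, [6, 0], [0, 6]),
    (5, [6, 2], [2, 6]),
    (6, [6, 4], [4, 6]),
    (7, [6, 5, 6], [5, 6, 5]),
    (9, [5, 5], []),
    (4, [0, 2], [2, 0]),
    (5, [0, 4], [4, 0]),
    (4, [2, 4], [4, 2]),
    (3, [1, 4], [4, 1]),
    (2, [0, 4], [4, 0])]

theorem swap_check : applySteps relsSeven swapSteps
    ([5, 6, 5, 4, 2] ++ [0, 1, 2, 0, 3, 4, 0, 5, 6].reverse ++ [2, 4, 5, 6, 5]) =
    some [0, 3, 4, 0, 1, 2, 0, 5, 6] := by decide +kernel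

/-- Between two Coxeter elements of the diagram of type E7. -/
def conjSteps : List (ℕ × List ℕ × List ℕ) := [(2, [1, 1], []),
    (1, [2, 2], []),
    (0, [1, 3], [3, 1]),
    (1, [1, 4], [4, 1]),
    (2, [1, 5], [5, 1]),
    (3, [1, 6], [6, 1]),
    (4, [1, 8], [8, 1]),
    (5, [1, 1], []),
    (3, [6, 8], [8, 6]),
    (2, [5, 8], [8, 5]),
    (4, [6, 2], [2, 6]),
    (3, [5, 2], [2, 5]),
    (2, [8, 2], [2, 8]),
    (5, [6, 1], [1, 6])]

end Cfsg.Agent.Lib.Spider
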