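import Cfsg.Agent.Lib.Spider.Chain
import Cfsg.Agent.Lib.Spider.Collapse
import Cfsg.Agent.Lib.Spider.Rewrite
import Cfsg.Agent.S1688
import Cfsg.Agent.S1697

/-!
In a group with eleven involutions satisfying the Coxeter relations of the ten-node diagram of Fi23
with one more node `k` joined to `j`, and one spider relation, and with a sign homomorphism, `k` is
the ninth power of the Coxeter element of a subdiagram of type E7.
-/

set_option autoImplicit false
set_option maxRecDepth 20000

namespace Cfsg.Agent.Lib.Spider.Core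

open Cfsg.Agent.Lib.CosetEnum

/-- The presented Fi23. -/
abbrev F : Type := PresentedGroup Fi23x31671.pres

/-- The group on ten nodes. -/
abbrev QTen : Type := PresentedGroup presTen

/-- The group on nine nodes. -/
abbrev QNine : Type := PresentedGroup presNine

/-- The nine nodes among the ten. -/
def embNine : List ℕ := [0, 1, 2, 3, 4, 5, 6, 8, 9]

/-- The words of the collapse certificate. -/
def collapseWords : List (List ℕ) := [[],
    [0, 1, 0, 1, 0, 1],
    [0, 2, 0, 2],
    [0, 3, 0, 3],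
    [0, 4, 0, 4],
    [0, 5, 0, 5],
    [0, 6, 0, 6],
    [0, 7, 0, 7],
    [0, 8, 0, 8],
    [0, 9, 0, 9],
    [0, 10, 0, 10],
    [1, 2, 1, 2, 1, 2],
    [1, 3, 1, 3],
    [1, 4, 1, 4],
    [1, 5, 1, 5],
    [1, 6, 1, 6],
    [1, 7, 1, 7],
    [1, 8, 1, 8],
    [1, 9, 1, 9],
    [1, 10, 1, 10],
    [2, 3, 2, 3, 2, 3],
    [2, 4, 2, 4],
    [2, 5, 2, 5],
    [2, 6, 2, 6],
    [2, 7, 2, 7],
    [2, 8, 2, 8],
    [2, 9, 2, 9],
    [2, 10, 2, 10],
    [3, 4, 3, 4, 3, 4],
    [3, 5, 3, 5],
    [3, 6, 3, 6],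
    [3, 7, 3, 7],
    [3, 8, 3, 8, 3, 8],
    [3, 9, 3, 9],
    [3, 10, 3, 10],
    [4, 5, 4, 5, 4, 5],
    [4, 6, 4, 6],
    [4, 7, 4, 7],
    [4, 8, 4, 8],
    [4, 9, 4, 9],
    [4, 10, 4, 10],
    [5, 6, 5, 6, 5, 6],
    [5, 7, 5, 7],
    [5, 8, 5, 8],
    [5, 9, 5, 9],
    [5, 10, 5, 10],
    [6, 7, 6, 7, 6, 7],
    [6, 8, 6, 8],
    [6, 9, 6, 9],
    [6, 10, 6, 10],
    [7, 8, 7, 8],
    [7, 9, 7, 9],
    [7, 10, 7, 10, 7, 10],
    [8, 9, 8, 9, 8, 9],
    [8, 10, 8, 10],
    [9, 10, 9, 10],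
    [3, 2, 1, 3, 4, 5, 3, 8, 9, 3, 2, 1, 3, 4, 5, 3, 8, 9, 3, 2, 1, 3, 4, 5, 3, 8, 9, 3, 2, 1, 3, 4, 5, 3, 8, 9, 3, 2, 1, 3, 4, 5, 3, 8, 9, 3, 2, 1, 3, 4, 5, 3, 8, 9, 3, 2, 1, 3, 4, 5, 3, 8, 9, 3, 2, 1, 3, 4, 5, 3, 8, 9, 3, 2, 1, 3, 4, 5, 3, 8, 9, 3, 2, 1, 3, 4, 5, 3, 8, 9],
    [0, 0],
    [1, 1],
    [2, 2],
    [3, 3],
    [4, 4],
    [5, 5],
    [6, 6],
    [7, 7],
    [8, 8],
    [9, 9],
    [10, 10],
    [0],
    [1],
    [2],
    [3],
    [4],
    [5],
    [6],
    [7],
    [8],
    [9]]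

/-- The E7 word killed in Fi23. -/
def killWord : List ℕ := (List.replicate 9 [0, 1, 2, 3, 4, 5, 8]).flatten

/-- The E7 word of the conclusion. -/
def goalWord : List ℕ := (List.replicate 9 [3, 4, 2, 8, 5, 1, 6]).flatten

theorem eq_one_or_eq {G : Type*} [Group G] {N : Subgroup G} [Finite N] (hN : Nat.card N ≤ 2)
    {a b : G} (ha : a ∈ N) (ha1 : a ≠ 1) (hb : b ∈ N) : b = 1 ∨ b = a := by
  by_contra h
  obtain ⟨h1, h2⟩ := not_or.1 h
  have hinj : Function.Injective (![⟨1, N.one_mem⟩, ⟨a, ha⟩, ⟨b, hb⟩] : Fin 3 → N) := by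
    intro i j hij
    have e := congrArg Subtype.val hij
    fin_cases i <;> fin_cases j <;> simp_all [eq_comm]
  have := Nat.card_le_card_of_injective _ hinj
  rw [Nat.card_fin] at this
  omega

theorem central_of_card_le_two {G : Type*} [Group G] (N : Subgroup G) [N.Normal] [Finite N]
    (hN : Nat.card N ≤ 2) {k : G} (hk : k ∈ N) : (∀ g, g * k = k * g) ∧ k * k = 1 := by
  rcases eq_or_ne k 1 with rfl | h1
  · simp
  refine ⟨fun g => ?_, ?_⟩
  · rcases eq_one_or_eq hN hk h1 (Subgroup.Normal.conj_mem inferInstance k hk g) with h | h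
    · exact absurd (conj_eq_one_iff.1 h) h1
    · exact mul_inv_eq_iff_eq_mul.1 h
  · rcases eq_one_or_eq hN hk h1 (N.mul_mem hk hk) with h | h
    · exact h
    · exact absurd (mul_eq_left.1 h) h1

theorem hom_ext {α : Type} [DecidableEq α] (L : Letters α) (S : Set (FreeGroup α))
    (hcol : ∀ a, L.col a < L.K ∧ L.sym (L.col a) = (a, true)) {H : Type*} [Group H]
    {f g : PresentedGroup S →* H} (h : ∀ i < L.K, f (L.phi S i) = g (L.phi S i)) : f = g := by
  refine MonoidHom.eq_of_eqOn_dense (Letters.gen_closure (S := S) hcol) ?_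
  rintro x ⟨i, hi, rfl⟩
  exact h i hi

theorem map_word {G H : Type*} [Group G] [Group H] (f : G →* H) (v : ℕ → G) (w : ℕ → H)
    (l : List ℕ) (h : ∀ g ∈ l, f (v g) = w g) : f (l.map v).prod = (l.map w).prod := by
  rw [map_list_prod, List.map_map]
  exact congrArg List.prod (List.map_congr_left h)

/-- The letters of Fi23. -/
noncomputable abbrev phiF (g : ℕ) : F := Fi23x31671.letters.phi Fi23x31671.pres g

/-- The letters of the group on ten nodes. -/
noncomputable abbrev phiT (g : ℕ) : QTen := lettersTen.phi presTen g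

/-- The letters of the group on nine nodes. -/
noncomputable abbrev phiN (g : ℕ) : QNine := lettersNine.phi presNine g

theorem relF {l : List ℕ} (h : l ∈ Fi23x31671.letters.RL) : (l.map phiF).prod = 1 :=
  Letters.prod_rel Fi23x31671.rels_mem Fi23x31671.letters_ok Fi23x31671.table_ok.col h

theorem relT {l : List ℕ} (h : l ∈ relsTen) : (l.map phiT).prod = 1 :=
  Letters.prod_rel (invPres_mem _ _ _) lettersTen_ok lettersTen_col h

theorem relsTen_in_F : ∀ l ∈ relsTen, (∀ g ∈ l, g < 10 ∧ [g, g] ∈ Fi23x31671.letters.RL) ∧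
    (l ∈ Fi23x31671.letters.RL ∨ l.reverse ∈ Fi23x31671.letters.RL) := by decide +kernel

theorem exists_psi : ∃ ψ : QTen →* F, ∀ g < 10, ψ (phiT g) = phiF g := by
  refine invPres_prod phiF fun l hl => ?_
  obtain ⟨h1, h2⟩ := relsTen_in_F l hl
  refine ⟨fun g hg => (h1 g hg).1, ?_⟩
  rcases h2 with h | h
  · exact relF h
  · have := relF h
    rwa [prod_reverse_inv phiF l (fun g hg => by simpa using relF (h1 g hg).2), inv_eq_one] at this

theorem exists_iota : ∃ ι : QNine →* QTen, ∀ g < 9, ι (phiN g) = phiT (embNine.getD g 0) := by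
  refine invPres_prod (fun g => phiT (embNine.getD g 0)) fun l hl => ?_
  have h := (by decide +kernel : ∀ l ∈ relsNine, (∀ g ∈ l, g < 9) ∧
    (l.map fun g => embNine.getD g 0) ∈ relsTen) l hl
  refine ⟨h.1, ?_⟩
  have := relT h.2
  rwa [List.map_map] at this

theorem exists_sign : ∃ s : QTen →* ℤˣ, ∀ g < 10, s (phiT g) = -1 := by
  refine invPres_prod (fun _ => (-1 : ℤˣ)) fun l hl => ?_
  exact (by decide +kernel : ∀ l ∈ relsTen, (∀ g ∈ l, g < 10) ∧
    (l.map fun _ => (-1 : ℤˣ)).prod = 1) l hl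

theorem relF_kill : (killWord.map phiF).prod = 1 := relF (by decide +kernel)

theorem J_mem {g : ℕ} (hg : g ∈ Fi23Orbit.emb) : phiF g ∈ Fi23Orbit.J :=
  Subgroup.subset_closure ⟨[g], List.mem_map.2 ⟨g, hg, rfl⟩, by simp⟩

/-- The E7 word in the ten-node group is central of order at most two. -/
theorem kill_central (ψ : QTen →* F) (hψ : ∀ g < 10, ψ (phiT g) = phiF g) :
    (∀ x : QTen, x * (killWord.map phiT).prod = (killWord.map phiT).prod * x) ∧
      (killWord.map phiT).prod * (killWord.map phiT).prod = 1 := by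
  classical
  obtain ⟨ι, hι⟩ := exists_iota
  obtain ⟨-, -, -, -, -, -, -, -, -, -, -, hJ⟩ := Fi23Orbit.main
  haveI : Finite QNine := Nat.finite_of_card_ne_zero Chain.card_le.1
  let ψ2 : QNine →* F := ψ.comp ι
  have hle : Fi23Orbit.J ≤ ψ2.range := by
    refine (Subgroup.closure_le _).2 ?_
    rintro x ⟨l, hl, rfl⟩
    obtain ⟨g, hg, rfl⟩ := List.mem_map.1 hl
    obtain ⟨k, hk, hkg⟩ := (by decide +kernel : ∀ g ∈ Fi23Orbit.emb, ∃ k < 9,
      embNine.getD k 0 = g ∧ g < 10) g hg
    refine ⟨phiN k, ?_⟩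
    change ψ (ι (phiN k)) = _
    rw [hι k hk, hkg.1, hψ g hkg.2]
    simp
  haveI : Finite ψ2.range := Finite.of_surjective _ ψ2.rangeRestrict_surjective
  have hr : 129123503308800 ≤ Nat.card ψ2.range := hJ ▸ Subgroup.card_le_of_le hle
  have hk : Nat.card ψ2.ker ≤ 2 := by
    have h := ψ2.ker.card_mul_index
    rw [Subgroup.index_ker] at h
    have := Chain.card_le.2
    by_contra hgt
    nlinarith [Nat.mul_le_mul (not_le.1 hgt) hr]
  set w2 := ([0, 1, 2, 3, 4, 5, 7].map phiN).prod ^ 9 with hw2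
  have hw : ι w2 = (killWord.map phiT).prod := by
    rw [hw2, map_pow, map_word ι phiN (fun g => phiT (embNine.getD g 0)) _
      (fun g hg => hι g ((by decide : ∀ g ∈ [0, 1, 2, 3, 4, 5, 7], g < 9) g hg))]
    simp only [killWord, List.map_flatten, List.map_replicate, List.prod_flatten, List.prod_replicate]
    rfl
  have hmem : w2 ∈ ψ2.ker := by
    change ψ (ι w2) = 1
    rw [hw, map_word ψ phiT phiF _
      (fun g hg => hψ g ((by decide +kernel : ∀ g ∈ killWord, g < 10) g hg)), relF_kill]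
  obtain ⟨hc, hsq⟩ := central_of_card_le_two ψ2.ker hk hmem
  have hgens : ∀ g < 10, phiT g * (killWord.map phiT).prod = (killWord.map phiT).prod * phiT g := by
    intro g hg
    by_cases h7 : g = 7
    · subst h7
      have hcomm : ∀ x ∈ killWord, Commute (phiT 7) (phiT x) := by
        intro x hx
        obtain ⟨h1, h2, h3⟩ := (by decide +kernel : ∀ x ∈ killWord,
          [7, x, 7, x] ∈ relsTen ∧ [7, 7] ∈ relsTen ∧ [x, x] ∈ relsTen) x hx
        have h := relT h1
        have e1 := relT h2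
        have e2 := relT h3
        simp only [List.map_cons, List.map_nil, List.prod_cons, List.prod_nil, mul_one] at h e1 e2
        have h' : (phiT 7 * phiT x) * (phiT 7 * phiT x) = 1 := by rw [mul_assoc]; exact h
        rw [mul_eq_one_iff_eq_inv, mul_inv_rev, inv_eq_of_mul_eq_one_right e1,
          inv_eq_of_mul_eq_one_right e2] at h'
        exact h'
      exact (Commute.list_prod_right _ _ fun x hx => by
        obtain ⟨y, hy, rfl⟩ := List.mem_map.1 hx
        exact hcomm y hy)
    · obtain ⟨k, hk', hkg⟩ := (by decide +kernel : ∀ g < 10, g = 7 ∨ ∃ k < 9, embNine.getD k 0 = g) g hg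
        |>.resolve_left h7
      rw [← hw, ← hkg, ← hι k hk', ← map_mul, ← map_mul, hc]
  refine ⟨fun x => ?_, by rw [← hw, ← map_mul, hsq, map_one]⟩
  have hx : x ∈ Subgroup.closure {x | ∃ g < lettersTen.K, phiT g = x} := by
    rw [Letters.gen_closure lettersTen_col]; trivial
  induction hx using Subgroup.closure_induction with
  | mem y hy =>
    obtain ⟨g, hg, rfl⟩ := hy
    exact hgens g hg
  | one => simp
  | mul a b _ _ ha hb => rw [mul_assoc, hb, ← mul_assoc, ha, mul_assoc]
  | inv a _ ha =>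
    have ha' : Commute a (killWord.map phiT).prod := ha
    exact ha'.inv_left

/-- The kernel of the map onto Fi23 is generated by the E7 word. -/
theorem ker_psi (ψ : QTen →* F) (hψ : ∀ g < 10, ψ (phiT g) = phiF g) {x : QTen} (hx : ψ x = 1) :
    x = 1 ∨ x = (killWord.map phiT).prod := by
  classical
  obtain ⟨hc, hsq⟩ := kill_central ψ hψ
  set z := (killWord.map phiT).prod with hz
  let N : Subgroup QTen := Subgroup.zpowers z
  haveI : N.Normal := ⟨fun n hn g => by
    obtain ⟨k, rfl⟩ := Subgroup.mem_zpowers_iff.1 hn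
    have h : Commute g (z ^ k) := Commute.zpow_right (hc g) k
    rw [h.eq, mul_inv_cancel_right]
    exact Subgroup.zpow_mem _ (Subgroup.mem_zpowers z) k⟩
  let f : Cfsg.Spor.Fi23.Gen → QTen ⧸ N := fun a =>
    QuotientGroup.mk' N (phiT (Fi23x31671.letters.col a))
  have hsym : ∀ g < 10, FreeGroup.lift f (FreeGroup.mk [Fi23x31671.letters.sym g]) =
      QuotientGroup.mk' N (phiT g) := by
    intro g hg
    obtain ⟨h1, h2⟩ := (by decide +kernel : ∀ g < 10,
      Fi23x31671.letters.col (Fi23x31671.letters.sym g).1 = g ∧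
      (Fi23x31671.letters.sym g).2 = true) g hg
    simp [FreeGroup.lift_mk, f, h1, h2]
  have hinvol : ∀ g < 10, (QuotientGroup.mk' N (phiT g))⁻¹ = QuotientGroup.mk' N (phiT g) := by
    intro g hg
    have h := relT ((by decide +kernel : ∀ g < 10, [g, g] ∈ relsTen) g hg)
    simp only [List.map_cons, List.map_nil, List.prod_cons, List.prod_nil, mul_one] at h
    rw [← map_inv, inv_eq_of_mul_eq_one_right h]
  have hinv : ∀ g < Fi23x31671.letters.K, invL Fi23x31671.letters.IV g < Fi23x31671.letters.K ∧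
      FreeGroup.lift f (FreeGroup.mk [Fi23x31671.letters.sym (invL Fi23x31671.letters.IV g)]) =
        (FreeGroup.lift f (FreeGroup.mk [Fi23x31671.letters.sym g]))⁻¹ := by
    intro g hg
    have hg' : g < 10 := hg
    have hi : invL Fi23x31671.letters.IV g = g :=
      (by decide +kernel : ∀ g < 10, invL Fi23x31671.letters.IV g = g) g hg'
    rw [hi, hsym g hg', hinvol g hg']
    exact ⟨hg, rfl⟩
  have hrels : ∀ r ∈ Fi23x31671.letters.rels, FreeGroup.lift f r = 1 := by
    intro r hr
    obtain ⟨l, hl, hle⟩ := Fi23x31671.letters_ok.2.2.2.2 r hr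
    rw [← (Letters.word_lettersOf (L := Fi23x31671.letters) (FreeGroup.lift f)
      Fi23x31671.table_ok.col hinv r).1, hle]
    obtain ⟨hlt, hl'⟩ := (by decide +kernel : ∀ l ∈ Fi23x31671.letters.RL,
      (∀ g ∈ l, g < 10) ∧ (l ∈ relsTen ∨ l = killWord)) l hl
    have he : ∀ l : List ℕ, (∀ g ∈ l, g < 10) →
        FreeGroup.lift f (Fi23x31671.letters.word l) = QuotientGroup.mk' N (l.map phiT).prod := by
      intro l
      induction l with
      | nil => intro _; simp [Letters.word, ← FreeGroup.one_eq_mk]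
      | cons g l ih =>
        intro hl
        have hw : Fi23x31671.letters.word (g :: l) =
            FreeGroup.mk [Fi23x31671.letters.sym g] * Fi23x31671.letters.word l := by
          simp [Letters.word]
        rw [hw, map_mul, ih fun x hx => hl x (List.mem_cons_of_mem _ hx),
          hsym g (hl g List.mem_cons_self), List.map_cons, List.prod_cons, map_mul]
    rw [he l hlt]
    rcases hl' with h | rfl
    · rw [relT h, map_one]
    · exact (QuotientGroup.eq_one_iff _).2 (Subgroup.mem_zpowers z)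
  let θ : F →* QTen ⧸ N := PresentedGroup.toGroup (f := f) (lift_rels_of_list
    (nodes := [Cfsg.Spor.Fi23.Gen.a, Cfsg.Spor.Fi23.Gen.b, Cfsg.Spor.Fi23.Gen.c, Cfsg.Spor.Fi23.Gen.d,
      Cfsg.Spor.Fi23.Gen.e, Cfsg.Spor.Fi23.Gen.f, Cfsg.Spor.Fi23.Gen.g, Cfsg.Spor.Fi23.Gen.j,
      Cfsg.Spor.Fi23.Gen.h, Cfsg.Spor.Fi23.Gen.i]) (by decide +kernel) (FreeGroup.lift f) hrels)
  have hcomp : θ.comp ψ = QuotientGroup.mk' N := by
    refine hom_ext lettersTen presTen lettersTen_col fun g hg => ?_
    have hg' : g < 10 := hg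
    rw [MonoidHom.comp_apply, hψ g hg', ← hsym g hg', phiF,
      Letters.phi_of_lt (show g < Fi23x31671.letters.K from hg')]
    rfl
  have hxN : x ∈ N := by
    rw [← QuotientGroup.eq_one_iff]
    exact ((DFunLike.congr_fun hcomp x).symm.trans (by rw [MonoidHom.comp_apply, hx, map_one]))
  obtain ⟨k, rfl⟩ := Subgroup.mem_zpowers_iff.1 hxN
  rcases Int.even_or_odd k with ⟨m, rfl⟩ | ⟨m, rfl⟩
  · left
    rw [← two_mul, zpow_mul, zpow_two, hsq, one_zpow]
  · right
    rw [zpow_add, zpow_mul, zpow_two, hsq, one_zpow, one_mul, zpow_one]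

theorem conj_check : applySteps relsTen conjSteps ([1, 2, 1] ++ [1, 2, 3, 4, 5, 6, 8] ++ [1, 2, 1]) =
    some [3, 4, 2, 8, 5, 1, 6] := by decide +kernel

theorem seven_moves : scan Fi23x31671.letters.K Fi23x31671.table [7] 0 ≠ 0 := by decide +kernel

/-- An element of Fi23 centralising `J` is trivial or the central involution of `J`, and the E7
word of the conclusion is that involution. -/
theorem centralizer_J {h : F} (hh : ∀ g ∈ Fi23Orbit.emb, h * phiF g = phiF g * h) :
    (h = 1 ∨ h = (goalWord.map phiF).prod) ∧ phiF 7 ≠ 1 := by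
  classical
  obtain ⟨ρ, ρJ, hρ, hst, htr, hinj, -, hge, hz, hz1, hG, hJ⟩ := Fi23Orbit.main
  haveI : Finite F := Nat.finite_of_card_ne_zero (by rw [hG]; omega)
  have h7 : phiF 7 ≠ 1 := by
    intro h1
    have hs := rho_scan Fi23x31671.letters _ ρ hρ [7] (by decide +kernel) ⟨0, by omega⟩
    simp only [List.map_cons, List.map_nil, List.prod_cons, List.prod_nil, mul_one] at hs
    rw [show Fi23x31671.letters.phi Fi23x31671.pres 7 = 1 from h1, map_one, inv_one] at hs
    exact seven_moves hs.symm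
  refine ⟨?_, h7⟩
  have hcomm : ∀ a ∈ Fi23Orbit.J, h * a = a * h := by
    intro a ha
    induction ha using Subgroup.closure_induction with
    | mem y hy =>
      obtain ⟨l, hl, rfl⟩ := hy
      obtain ⟨g, hg, rfl⟩ := List.mem_map.1 hl
      simpa using hh g hg
    | one => simp
    | mul a b _ _ ha hb => rw [← mul_assoc, ha, mul_assoc, hb, ← mul_assoc]
    | inv a _ ha =>
      have ha' : Commute h a := ha
      exact ha'.inv_right
  set p : Fin 31671 := ⟨0, by omega⟩
  have hfix : ∀ a ∈ Fi23Orbit.J, ρ a (ρ h p) = ρ h p := by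
    intro a ha
    rw [← Equiv.Perm.mul_apply, ← map_mul, ← hcomm a ha, map_mul, Equiv.Perm.mul_apply, (hst a).1 ha]
  have hcov := allBelow_iff.1 Cfsg.Agent.S1697.cover (ρ h p).1 (ρ h p).2
  simp only [coverAt, force_eq, Bool.or_eq_true, Bool.and_eq_true, Bool.false_eq_true, or_false,
    Nat.beq_eq, Nat.blt_eq] at hcov
  have single : ∀ r : Fin 31671, (∃ a ∈ Fi23Orbit.J, ρ a r = ρ h p) →
      {y | ∃ a ∈ Fi23Orbit.J, ρ a r = y}.ncard = 1 := by
    rintro r ⟨a, ha, har⟩
    have hr : r = ρ h p := by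
      have := hfix a⁻¹ (inv_mem ha)
      rw [← har, map_inv, Equiv.Perm.inv_def, Equiv.symm_apply_apply] at this
      rw [← har]
      exact this
    rw [Set.ncard_eq_one]
    refine ⟨ρ h p, Set.ext fun y => ⟨?_, ?_⟩⟩
    · rintro ⟨b, hb, rfl⟩
      rw [hr]
      exact hfix b hb
    · intro hy
      exact ⟨1, one_mem _, by rw [Set.mem_singleton_iff.1 hy, map_one, hr]; rfl⟩
  have hp : ρ h p = p := by
    rcases hcov with h0 | ⟨h1, h2⟩ | ⟨h1, h2⟩
    · exact Fin.ext h0
    · have h28 := (Fi23x31671.orb1_spec ρ hρ).1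
      have := single _ ((Fi23x31671.orb1_spec ρ hρ).2.2 _ h1 _ h2.symm)
      exact absurd (h28.symm.trans this) (by omega)
    · have h35 := (Fi23x31671.orb2_spec ρ hρ).1
      have := single _ ((Fi23x31671.orb2_spec ρ hρ).2.2 _ h1 _ h2.symm)
      exact absurd (h35.symm.trans this) (by omega)
  have hhJ : h ∈ Fi23Orbit.J := (hst h).2 hp
  haveI : Finite Fi23Orbit.J := inferInstance
  have hcen : (⟨h, hhJ⟩ : Fi23Orbit.J) ∈ Subgroup.center Fi23Orbit.J :=
    Subgroup.mem_center_iff.2 fun a => Subtype.ext (hcomm a.1 a.2).symm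
  have hker : Nat.card ρJ.ker ≤ 2 := by
    have h := ρJ.ker.card_mul_index
    rw [Subgroup.index_ker, hJ] at h
    by_contra hgt
    nlinarith [Nat.mul_le_mul (not_le.1 hgt) hge]
  have hzc := (central_of_card_le_two ρJ.ker hker (k := Fi23Orbit.z) hz).1
  have hc2 : Nat.card (Subgroup.center Fi23Orbit.J) = 2 := by
    have h := Cfsg.Agent.S1688.result
    rw [map_closure_eq_subOf Fi23x31671.letters _ Fi23x31671.subWords (by decide +kernel)
      [Cfsg.Spor.Fi23.a, Cfsg.Spor.Fi23.b, Cfsg.Spor.Fi23.c, Cfsg.Spor.Fi23.d, Cfsg.Spor.Fi23.e,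
        Cfsg.Spor.Fi23.f, Cfsg.Spor.Fi23.g, Cfsg.Spor.Fi23.h, Cfsg.Spor.Fi23.i]
      (by decide +kernel) _ (by ext; simp)] at h
    exact h.1
  have hzgoal : (goalWord.map phiF).prod = Fi23Orbit.z.1 := by
    have hlin : Fi23Orbit.z.1 = ([1, 2, 3, 4, 5, 6, 8].map phiF).prod ^ 9 := by
      change (Fi23Orbit.zWord.map phiF).prod = _
      rw [show Fi23Orbit.zWord = (List.replicate 9 [1, 2, 3, 4, 5, 6, 8]).flatten from by
        decide +kernel]
      simp only [List.map_flatten, List.map_replicate, List.prod_flatten, List.prod_replicate]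
    have hc := applySteps_sound phiF relsTen (fun l hl => by
      obtain ⟨ψ, hψ⟩ := exists_psi
      rw [← map_word ψ phiT phiF l (fun g hg => hψ g ((relsTen_in_F l hl).1 g hg).1), relT hl,
        map_one]) _ _ _ conj_check
    have hmem : ([1, 2, 1].map phiF).prod ∈ Fi23Orbit.J := list_prod_mem fun x hx => by
      obtain ⟨g, hg, rfl⟩ := List.mem_map.1 hx
      exact J_mem ((by decide +kernel : ∀ g ∈ [1, 2, 1], g ∈ Fi23Orbit.emb) g hg)
    have hinv : ([1, 2, 1].map phiF).prod⁻¹ = ([1, 2, 1].map phiF).prod := by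
      rw [← prod_reverse_inv phiF [1, 2, 1] (fun g hg => by
        simpa using relF ((by decide +kernel : ∀ g ∈ [1, 2, 1],
          [g, g] ∈ Fi23x31671.letters.RL) g hg))]
      rfl
    have hx : ([3, 4, 2, 8, 5, 1, 6].map phiF).prod =
        ([1, 2, 1].map phiF).prod * ([1, 2, 3, 4, 5, 6, 8].map phiF).prod *
          (([1, 2, 1].map phiF).prod)⁻¹ := by
      rw [hinv, ← hc, List.map_append, List.map_append, List.prod_append, List.prod_append]
    simp only [goalWord, List.map_flatten, List.map_replicate, List.prod_flatten, List.prod_replicate]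
    rw [hx, conj_pow, ← hlin]
    have := congrArg Subtype.val (hzc ⟨_, hmem⟩)
    change _ * Fi23Orbit.z.1 = Fi23Orbit.z.1 * _ at this
    rw [this, mul_inv_cancel_right]
  haveI : Finite (Subgroup.center Fi23Orbit.J) := inferInstance
  rcases eq_one_or_eq hc2.le (Subgroup.mem_center_iff.2 hzc) hz1 hcen with he | he
  · exact Or.inl (congrArg Subtype.val he)
  · exact Or.inr ((congrArg Subtype.val he).trans hzgoal.symm)

/-- The main deduction. -/
theorem main {G : Type} [Group G] (v : ℕ → G) (hv : ∀ l ∈ relsEleven, (l.map v).prod = 1)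
    (sgn : G →* ℤˣ) (hsgn : ∀ g < 11, sgn (v g) = -1) : v 10 = (goalWord.map v).prod := by
  classical
  obtain ⟨φ, hφ⟩ : ∃ φ : QTen →* G, ∀ g < 10, φ (phiT g) = v g := invPres_prod v fun l hl =>
    ⟨((by decide +kernel : ∀ l ∈ relsTen, (∀ g ∈ l, g < 10) ∧ l ∈ relsEleven) l hl).1,
      hv l ((by decide +kernel : ∀ l ∈ relsTen, (∀ g ∈ l, g < 10) ∧ l ∈ relsEleven) l hl).2⟩
  obtain ⟨ψ, hψ⟩ := exists_psi
  obtain ⟨s, hs⟩ := exists_sign
  have hgl : ∀ g ∈ goalWord, g < 10 := by decide +kernel
  have hkl : ∀ g ∈ killWord, g < 10 := by decide +kernel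
  -- the extra generator lies in the image
  have hsq : ∀ g < 11, v g * v g = 1 := fun g hg => by
    simpa using hv _ ((by decide +kernel : ∀ g < 11, [g, g] ∈ relsEleven) g hg)
  let v' : ℕ → G := fun g => if g = 11 then 1 else v g
  have hv' : ∀ g < 11, v' g = v g := fun g hg => if_neg (by omega)
  have hval : Valid Collapse.data v' φ.range := by
    have hW : ∀ w < Collapse.data.nW, ∀ g ∈ (collapseWords.getD w []), g < 11 := by decide +kernel
    have hev : ∀ w < Collapse.data.nW, ev v' (getWord Collapse.data.W w) =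
        ((collapseWords.getD w []).map v).prod := by
      intro w hw
      rw [(by decide +kernel : ∀ w < Collapse.data.nW,
        getWord Collapse.data.W w = pack (collapseWords.getD w [])) w hw,
        ev_pack _ _ (fun g hg => by have := hW w hw g hg; omega)]
      exact congrArg List.prod (List.map_congr_left fun g hg => hv' g (hW w hw g hg))
    refine ⟨by decide +kernel, if_pos rfl, fun g hg => ?_, fun w hw => ?_, fun w hw => ?_⟩
    · obtain ⟨h1, h2⟩ := (by decide +kernel : ∀ g ≤ Collapse.data.K,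
        invL Collapse.data.IV g = g ∧ g ≤ 11) g hg
      rw [h1]
      refine ⟨hg, ?_⟩
      rcases eq_or_lt_of_le h2 with rfl | h2
      · simp [v']
      · rw [hv' g h2]; exact eq_inv_of_mul_eq_one_left (hsq g h2)
    · rw [hev w (lt_of_lt_of_le hw (by decide +kernel : Collapse.data.nR ≤ Collapse.data.nW))]
      exact hv _ ((by decide +kernel : ∀ w < Collapse.data.nR,
        collapseWords.getD w [] ∈ relsEleven) w hw)
    · rw [hev w hw]
      rcases (by decide +kernel : ∀ w < Collapse.data.nW, collapseWords.getD w [] ∈ relsEleven ∨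
          ∀ g ∈ collapseWords.getD w [], g < 10) w hw with h | h
      · rw [hv _ h]; exact one_mem _
      · exact list_prod_mem fun x hx => by
          obtain ⟨g, hg, rfl⟩ := List.mem_map.1 hx
          exact ⟨phiT g, hφ g (h g hg)⟩
  have h10 : v 10 ∈ φ.range := by
    obtain ⟨i, hi, hm⟩ := rep_covers hval Collapse.edges_ok (Collapse.good _ _ v' _ hval)
      (by omega) (by decide +kernel)
      (fun g hg => ⟨g, hg, (inv_eq_of_mul_eq_one_right (by
        have : g < 11 := hg
        rw [hv' g this]; exact hsq g this)).symm⟩) (v' 10)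
      (Subgroup.subset_closure ⟨10, by decide +kernel, rfl⟩)
    obtain rfl : i = 0 := by omega
    rw [show get32 Collapse.vert 0 = 0 from by decide +kernel, rep_zero, inv_one, mul_one,
      hv' 10 (by omega)] at hm
    exact hm
  obtain ⟨h, hh⟩ := h10
  have hsφ : sgn.comp φ = s := hom_ext lettersTen presTen lettersTen_col fun g hg => by
    have hg' : g < 10 := hg
    rw [MonoidHom.comp_apply, hφ g hg', hsgn g (by omega), hs g hg']
  have hsh : s h = -1 := by rw [← hsφ, MonoidHom.comp_apply, hh, hsgn 10 (by omega)]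
  set z := (killWord.map phiT).prod with hzdef
  set t := (goalWord.map phiT).prod with htdef
  have hneg : ∀ l : List ℕ, (∀ g ∈ l, g < 10) → s (l.map phiT).prod = (-1) ^ l.length := by
    intro l hl
    rw [map_word s phiT (fun _ => (-1 : ℤˣ)) l (fun g hg => hs g (hl g hg))]
    simp
  have hsz : s z = -1 := by rw [hzdef, hneg _ hkl]; decide +kernel
  have hst : s t = -1 := by rw [htdef, hneg _ hgl]; decide +kernel
  have hgoal : φ t = (goalWord.map v).prod := map_word φ phiT v _ fun g hg => hφ g (hgl g hg)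
  have hψt : ψ t = (goalWord.map phiF).prod := map_word ψ phiT phiF _ fun g hg => hψ g (hgl g hg)
  have hψz : ψ z = 1 :=
    (map_word ψ phiT phiF _ fun g hg => hψ g (hkl g hg)).trans relF_kill
  have heven : ∀ x, ψ x = 1 → s x = 1 → x = 1 := by
    intro x hx hsx
    rcases ker_psi ψ hψ hx with h | rfl
    · exact h
    · rw [hsz] at hsx; exact absurd hsx (by decide)
  have hsker : φ.ker ≤ s.ker := fun x hx => by
    rw [MonoidHom.mem_ker, ← hsφ, MonoidHom.comp_apply, MonoidHom.mem_ker.1 hx, map_one]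
  have hψs : Function.Surjective ψ := by
    rw [← MonoidHom.range_eq_top, eq_top_iff,
      ← Letters.gen_closure (L := Fi23x31671.letters) (S := Fi23x31671.pres) Fi23x31671.table_ok.col,
      Subgroup.closure_le]
    rintro x ⟨g, hg, rfl⟩
    exact ⟨phiT g, hψ g hg⟩
  by_cases hK : φ.ker = ⊥
  · have hφi : Function.Injective φ := (MonoidHom.ker_eq_bot_iff φ).1 hK
    have hv2 : ∀ a b : ℕ, a < 11 → b < 11 → [a, b, a, b] ∈ relsEleven → v a * v b = v b * v a := by
      intro a b ha hb hab
      have e := hv _ hab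
      simp only [List.map_cons, List.map_nil, List.prod_cons, List.prod_nil, mul_one] at e
      have e' : (v a * v b) * (v a * v b) = 1 := by rw [mul_assoc]; exact e
      rw [mul_eq_one_iff_eq_inv, mul_inv_rev, inv_eq_of_mul_eq_one_right (hsq a ha),
        inv_eq_of_mul_eq_one_right (hsq b hb)] at e'
      exact e'
    obtain ⟨hcase, h7⟩ := centralizer_J (h := ψ h) fun g hg => by
      obtain ⟨h1, h2⟩ := (by decide +kernel : ∀ g ∈ Fi23Orbit.emb,
        g < 10 ∧ [10, g, 10, g] ∈ relsEleven) g hg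
      rw [← hψ g h1, ← map_mul, ← map_mul]
      refine congrArg ψ (hφi ?_)
      rw [map_mul, map_mul, hh, hφ g h1]
      exact hv2 10 g (by omega) (by omega) h2
    rcases hcase with he | he
    · have hhz : h = z := by
        rcases ker_psi ψ hψ he with e | e
        · rw [e, map_one] at hsh; exact absurd hsh (by decide)
        · exact e
      exfalso
      apply h7
      have hc : v 7 * v 10 = v 10 * v 7 := by
        rw [← hh, ← hφ 7 (by omega), ← map_mul, ← map_mul, hhz, (kill_central ψ hψ).1 (phiT 7)]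
      have e3 := hv [7, 10, 7, 10, 7, 10] (by decide +kernel)
      simp only [List.map_cons, List.map_nil, List.prod_cons, List.prod_nil, mul_one] at e3
      have e2 : v 7 * v 10 * (v 7 * v 10) = 1 := by
        calc v 7 * v 10 * (v 7 * v 10) = v 7 * (v 10 * v 7) * v 10 := by group
          _ = v 7 * (v 7 * v 10) * v 10 := by rw [hc]
          _ = (v 7 * v 7) * (v 10 * v 10) := by group
          _ = 1 := by rw [hsq 7 (by omega), hsq 10 (by omega), one_mul]
      have e1 : v 7 * v 10 = 1 := by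
        have : v 7 * v 10 * (v 7 * v 10) * (v 7 * v 10) = 1 := by
          simpa only [mul_assoc] using e3
        rwa [e2, one_mul] at this
      have e7 : phiT 7 = z := hφi (by
        rw [hφ 7 (by omega), ← hhz, hh]
        exact (eq_inv_of_mul_eq_one_left e1).trans (inv_eq_of_mul_eq_one_right (hsq 10 (by omega))))
      rw [← hψ 7 (by omega), e7, hψz]
    · have : h * t⁻¹ = 1 := heven _ (by rw [map_mul, map_inv, hψt, he, mul_inv_cancel])
        (by rw [map_mul, map_inv, hsh, hst, mul_inv_cancel])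
      rw [← hh, mul_inv_eq_one.1 this, hgoal]
  · haveI : IsSimpleGroup F := Cfsg.Agent.S1697.result.1
    haveI : (φ.ker.map ψ).Normal := Subgroup.Normal.map inferInstance ψ hψs
    have htop : φ.ker.map ψ = ⊤ := by
      rcases (inferInstance : (φ.ker.map ψ).Normal).eq_bot_or_eq_top with e | e
      · exfalso
        apply hK
        rw [eq_bot_iff]
        intro x hx
        refine Subgroup.mem_bot.2 (heven x ?_ (hsker hx))
        have := Subgroup.mem_map_of_mem ψ hx
        rw [e, Subgroup.mem_bot] at this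
        exact this
      · exact e
    have hmem : h * t⁻¹ ∈ φ.ker := by
      obtain ⟨k, hk, hke⟩ : ψ (h * t⁻¹) ∈ φ.ker.map ψ := htop ▸ Subgroup.mem_top _
      have : h * t⁻¹ * k⁻¹ = 1 := heven _ (by rw [map_mul _ (h * t⁻¹), map_inv, hke, mul_inv_cancel])
        (by rw [map_mul, map_mul, map_inv, map_inv, hsh, hst,
          show s k = 1 from hsker hk]; decide)
      rw [mul_inv_eq_one.1 this]
      exact hk
    rw [MonoidHom.mem_ker, map_mul, map_inv, mul_inv_eq_one, hh, hgoal] at hmem
    exact hmem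

end Cfsg.Agent.Lib.Spider.Core
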