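import Cfsg.Prelude.Def_Spor_M
import Cfsg.Agent.Lib.Spider.Core

/-!
The six relators of type E7 of the Bimonster hold in the group presented by the Coxeter diagram Y555
and the spider relation alone.
-/

set_option autoImplicit false
set_option maxRecDepth 20000

namespace Cfsg.Agent.Lib.Spider.Bimonster

open Cfsg.Spor.Bimonster (Gen edges)

/-- The relators of Y555 with the spider relation. -/
abbrev rels : Set (FreeGroup Gen) :=
  Cfsg.Spor.coxRelators edges ∪ {r' | r' ∈ [(Cfsg.Spor.Bimonster.a * Cfsg.Spor.Bimonster.b1 *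
    Cfsg.Spor.Bimonster.c1 * Cfsg.Spor.Bimonster.a * Cfsg.Spor.Bimonster.b2 * Cfsg.Spor.Bimonster.c2 *
    Cfsg.Spor.Bimonster.a * Cfsg.Spor.Bimonster.b3 * Cfsg.Spor.Bimonster.c3) ^ 10]}

/-- The group. -/
abbrev G : Type := PresentedGroup rels

/-- A generator. -/
def el (x : Gen) : G := PresentedGroup.of x

/-- The element of a spider word. -/
def spider (b c b' c' b'' c'' : Gen) : G :=
  el .a * el b * el c * el .a * el b' * el c' * el .a * el b'' * el c''

theorem spider_base : spider .b1 .c1 .b2 .c2 .b3 .c3 ^ 10 = 1 := by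
  have h : PresentedGroup.mk rels ((Cfsg.Spor.Bimonster.a * Cfsg.Spor.Bimonster.b1 *
      Cfsg.Spor.Bimonster.c1 * Cfsg.Spor.Bimonster.a * Cfsg.Spor.Bimonster.b2 * Cfsg.Spor.Bimonster.c2 *
      Cfsg.Spor.Bimonster.a * Cfsg.Spor.Bimonster.b3 * Cfsg.Spor.Bimonster.c3) ^ 10) = 1 :=
    PresentedGroup.one_of_mem (Or.inr List.mem_cons_self)
  rw [map_pow, map_mul, map_mul, map_mul, map_mul, map_mul, map_mul, map_mul, map_mul] at h
  exact h

theorem spider_rot {b c b' c' b'' c'' : Gen} (h : spider b c b' c' b'' c'' ^ 10 = 1) :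
    spider b' c' b'' c'' b c ^ 10 = 1 := by
  have e : spider b' c' b'' c'' b c =
      (el .a * el b * el c)⁻¹ * spider b c b' c' b'' c'' * ((el .a * el b * el c)⁻¹)⁻¹ := by
    simp only [spider]; group
  rw [e, conj_pow, h]
  group

theorem cox_rel (x y : Gen) (hx : x ∈ Cfsg.Spor.coxNodes edges) (hy : y ∈ Cfsg.Spor.coxNodes edges) :
    (el x * el y) ^ Cfsg.Spor.coxLabel edges x y = 1 := by
  have h : PresentedGroup.mk rels ((FreeGroup.of x * FreeGroup.of y) ^ Cfsg.Spor.coxLabel edges x y) = 1 :=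
    PresentedGroup.one_of_mem (Or.inl ⟨x, hx, y, hy, rfl⟩)
  rw [map_pow, map_mul] at h
  exact h

/-- The Coxeter relators among the listed generators. -/
def coxOK (σ : List Gen) (l : List ℕ) : Bool :=
  (l == []) || ((l.getD 0 0 < σ.length) && (l.getD 1 0 < σ.length) &&
    (l == (List.replicate (Cfsg.Spor.coxLabel edges (σ.getD (l.getD 0 0) .a) (σ.getD (l.getD 1 0) .a))
      [l.getD 0 0, l.getD 1 0]).flatten))

theorem nodes_all : ∀ x : Gen, x ∈ Cfsg.Spor.coxNodes edges := by
  intro x; cases x <;> decide +kernel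

theorem coxOK_sound (σ : List Gen) (l : List ℕ) (h : coxOK σ l = true) :
    (l.map fun g => el (σ.getD g .a)).prod = 1 := by
  simp only [coxOK, Bool.or_eq_true, Bool.and_eq_true, beq_iff_eq] at h
  rcases h with h | ⟨-, h⟩
  · rw [h]; rfl
  · rw [h, List.map_flatten, List.map_replicate, List.prod_flatten, List.map_replicate,
      List.prod_replicate]
    simp only [List.map_cons, List.map_nil, List.prod_cons, List.prod_nil, mul_one]
    exact cox_rel _ _ (nodes_all _) (nodes_all _)

theorem spider_swap : spider .b2 .c2 .b1 .c1 .b3 .c3 ^ 10 = 1 := by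
  let σ : List Gen := [.a, .b1, .c1, .b2, .c2, .b3, .c3]
  let v : ℕ → G := fun g => el (σ.getD g .a)
  have hRL : ∀ l ∈ relsSeven, (l.map v).prod = 1 := fun l hl => coxOK_sound σ l
    ((by decide +kernel : ∀ l ∈ relsSeven,
      coxOK [.a, .b1, .c1, .b2, .c2, .b3, .c3] l = true) l hl)
  have h := applySteps_sound v relsSeven hRL _ _ _ swap_check
  have hsq : ∀ g ∈ [0, 1, 2, 0, 3, 4, 0, 5, 6] ++ [5, 6, 5, 4, 2], v g * v g = 1 := fun g hg => by
    simpa using hRL _ ((by decide +kernel : ∀ g ∈ [0, 1, 2, 0, 3, 4, 0, 5, 6] ++ [5, 6, 5, 4, 2],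
      [g, g] ∈ relsSeven) g hg)
  rw [List.map_append, List.map_append, List.prod_append, List.prod_append,
    prod_reverse_inv v _ (fun g hg => hsq g (List.mem_append_left _ hg)),
    show ([2, 4, 5, 6, 5] : List ℕ) = [5, 6, 5, 4, 2].reverse from rfl,
    prod_reverse_inv v _ (fun g hg => hsq g (List.mem_append_right _ hg))] at h
  have hs : spider .b1 .c1 .b2 .c2 .b3 .c3 = ([0, 1, 2, 0, 3, 4, 0, 5, 6].map v).prod := by
    simp [spider, v, σ, mul_assoc]
  have ht : spider .b2 .c2 .b1 .c1 .b3 .c3 = ([0, 3, 4, 0, 1, 2, 0, 5, 6].map v).prod := by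
    simp [spider, v, σ, mul_assoc]
  rw [ht, ← h, conj_pow, inv_pow, ← hs, spider_base]
  group

theorem exists_sign : ∃ s : G →* ℤˣ, ∀ x, s (el x) = -1 := by
  have h : ∀ r ∈ rels, FreeGroup.lift (fun _ : Gen => (-1 : ℤˣ)) r = 1 := by
    rintro r (⟨x, hx, y, hy, rfl⟩ | hr)
    · simp
    · rw [Set.mem_setOf_eq, List.mem_singleton] at hr
      subst hr
      simp
      decide
  exact ⟨PresentedGroup.toGroup h, fun x => PresentedGroup.toGroup.of h⟩

/-- One E7 relation, given the spider relation in the matching order. -/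
theorem relation (dj cj bj bi ci di ei bk ck fi : Gen)
    (hcox : (relsEleven.all fun l => coxOK [dj, cj, bj, .a, bi, ci, di, ei, bk, ck, fi] l ||
      (l == (List.replicate 10 [3, 2, 1, 3, 4, 5, 3, 8, 9]).flatten)) = true)
    (hspider : spider bj cj bi ci bk ck ^ 10 = 1) :
    el fi = (el .a * el bi * el bj * el bk * el ci * el cj * el di) ^ 9 := by
  obtain ⟨s, hs⟩ := exists_sign
  have h := Core.main (fun g => el ([dj, cj, bj, .a, bi, ci, di, ei, bk, ck, fi].getD g .a))
    (fun l hl => by
      have := List.all_eq_true.1 hcox l hl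
      rw [Bool.or_eq_true, beq_iff_eq] at this
      rcases this with h | rfl
      · exact coxOK_sound _ l h
      · rw [List.map_flatten, List.map_replicate, List.prod_flatten, List.map_replicate,
          List.prod_replicate]
        simpa [spider, mul_assoc] using hspider)
    s (fun g _ => hs _)
  rw [Core.goalWord, List.map_flatten, List.map_replicate, List.prod_flatten, List.map_replicate,
    List.prod_replicate] at h
  simpa [mul_assoc] using h

/-- All six relators of type E7. -/
theorem all_relations : ∀ r ∈ Cfsg.Spor.Bimonster.extra, PresentedGroup.mk rels r = 1 := by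
  have h123 := spider_base
  have h231 := spider_rot h123
  have h312 := spider_rot h231
  have h213 := spider_swap
  have h132 := spider_rot h213
  have h321 := spider_rot h132
  intro r hr
  simp only [Cfsg.Spor.Bimonster.extra, List.mem_cons, List.not_mem_nil, or_false] at hr
  rcases hr with rfl | rfl | rfl | rfl | rfl | rfl | rfl
  · exact PresentedGroup.one_of_mem (Or.inr List.mem_cons_self)
  all_goals simp only [map_mul, map_inv, map_pow, mul_inv_eq_one]
  · exact relation .d2 .c2 .b2 .b1 .c1 .d1 .e1 .b3 .c3 .f1 (by decide +kernel) h213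
  · exact relation .d3 .c3 .b3 .b1 .c1 .d1 .e1 .b2 .c2 .f1 (by decide +kernel) h312
  · exact relation .d1 .c1 .b1 .b2 .c2 .d2 .e2 .b3 .c3 .f2 (by decide +kernel) h123
  · exact relation .d3 .c3 .b3 .b2 .c2 .d2 .e2 .b1 .c1 .f2 (by decide +kernel) h321
  · exact relation .d1 .c1 .b1 .b3 .c3 .d3 .e3 .b2 .c2 .f3 (by decide +kernel) h132
  · exact relation .d2 .c2 .b2 .b3 .c3 .d3 .e3 .b1 .c1 .f3 (by decide +kernel) h231

end Cfsg.Agent.Lib.Spider.Bimonster
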