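import Cfsg.Agent.Lib.Spider.NineCert.Data
import Cfsg.Agent.Lib.Spider.NineCert.Check0
import Cfsg.Agent.Lib.Spider.NineCert.Check1
import Cfsg.Agent.Lib.Spider.NineCert.Check2
import Cfsg.Agent.Lib.Spider.NineCert.Check3
import Cfsg.Agent.Lib.Spider.NineCert.Check4
import Cfsg.Agent.Lib.Spider.NineCert.Check5
import Cfsg.Agent.Lib.Spider.NineCert.Check6
import Cfsg.Agent.Lib.Spider.NineCert.Check7
import Cfsg.Agent.Lib.Spider.NineCert.Check8
import Cfsg.Agent.Lib.Spider.NineCert.Edge0
import Cfsg.Agent.Lib.Spider.NineCert.Edge1

/-! Enumeration of the group on nine nodes over eight of them: 28160 cosets. -/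

set_option autoImplicit false
set_option maxRecDepth 20000
set_option Elab.async false

namespace Cfsg.Agent.Lib.Spider.NineCert

open Cfsg.Agent.Lib.CosetEnum

theorem defs_ok : defsOK data 38318 = true := by decide +kernel

theorem good (G : Type) (_ : Group G) (φ : ℕ → G) (H : Subgroup G) (hV : Valid data φ H) :
    ∀ i < 172418, Good data 38318 φ H i :=
  (chunks_sound hV part83 part83_ok.1 part83_ok.2
      (chunks_sound hV part82 part82_ok.1 part82_ok.2
      (chunks_sound hV part81 part81_ok.1 part81_ok.2
      (chunks_sound hV part80 part80_ok.1 part80_ok.2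
      (chunks_sound hV part79 part79_ok.1 part79_ok.2
      (chunks_sound hV part78 part78_ok.1 part78_ok.2
      (chunks_sound hV part77 part77_ok.1 part77_ok.2
      (chunks_sound hV part76 part76_ok.1 part76_ok.2
      (chunks_sound hV part75 part75_ok.1 part75_ok.2
      (chunks_sound hV part74 part74_ok.1 part74_ok.2
      (chunks_sound hV part73 part73_ok.1 part73_ok.2
      (chunks_sound hV part72 part72_ok.1 part72_ok.2
      (chunks_sound hV part71 part71_ok.1 part71_ok.2
      (chunks_sound hV part70 part70_ok.1 part70_ok.2
      (chunks_sound hV part69 part69_ok.1 part69_ok.2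
      (chunks_sound hV part68 part68_ok.1 part68_ok.2
      (chunks_sound hV part67 part67_ok.1 part67_ok.2
      (chunks_sound hV part66 part66_ok.1 part66_ok.2
      (chunks_sound hV part65 part65_ok.1 part65_ok.2
      (chunks_sound hV part64 part64_ok.1 part64_ok.2
      (chunks_sound hV part63 part63_ok.1 part63_ok.2
      (chunks_sound hV part62 part62_ok.1 part62_ok.2
      (chunks_sound hV part61 part61_ok.1 part61_ok.2
      (chunks_sound hV part60 part60_ok.1 part60_ok.2
      (chunks_sound hV part59 part59_ok.1 part59_ok.2
      (chunks_sound hV part58 part58_ok.1 part58_ok.2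
      (chunks_sound hV part57 part57_ok.1 part57_ok.2
      (chunks_sound hV part56 part56_ok.1 part56_ok.2
      (chunks_sound hV part55 part55_ok.1 part55_ok.2
      (chunks_sound hV part54 part54_ok.1 part54_ok.2
      (chunks_sound hV part53 part53_ok.1 part53_ok.2
      (chunks_sound hV part52 part52_ok.1 part52_ok.2
      (chunks_sound hV part51 part51_ok.1 part51_ok.2
      (chunks_sound hV part50 part50_ok.1 part50_ok.2
      (chunks_sound hV part49 part49_ok.1 part49_ok.2
      (chunks_sound hV part48 part48_ok.1 part48_ok.2
      (chunks_sound hV part47 part47_ok.1 part47_ok.2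
      (chunks_sound hV part46 part46_ok.1 part46_ok.2
      (chunks_sound hV part45 part45_ok.1 part45_ok.2
      (chunks_sound hV part44 part44_ok.1 part44_ok.2
      (chunks_sound hV part43 part43_ok.1 part43_ok.2
      (chunks_sound hV part42 part42_ok.1 part42_ok.2
      (chunks_sound hV part41 part41_ok.1 part41_ok.2
      (chunks_sound hV part40 part40_ok.1 part40_ok.2
      (chunks_sound hV part39 part39_ok.1 part39_ok.2
      (chunks_sound hV part38 part38_ok.1 part38_ok.2
      (chunks_sound hV part37 part37_ok.1 part37_ok.2
      (chunks_sound hV part36 part36_ok.1 part36_ok.2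
      (chunks_sound hV part35 part35_ok.1 part35_ok.2
      (chunks_sound hV part34 part34_ok.1 part34_ok.2
      (chunks_sound hV part33 part33_ok.1 part33_ok.2
      (chunks_sound hV part32 part32_ok.1 part32_ok.2
      (chunks_sound hV part31 part31_ok.1 part31_ok.2
      (chunks_sound hV part30 part30_ok.1 part30_ok.2
      (chunks_sound hV part29 part29_ok.1 part29_ok.2
      (chunks_sound hV part28 part28_ok.1 part28_ok.2
      (chunks_sound hV part27 part27_ok.1 part27_ok.2
      (chunks_sound hV part26 part26_ok.1 part26_ok.2
      (chunks_sound hV part25 part25_ok.1 part25_ok.2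
      (chunks_sound hV part24 part24_ok.1 part24_ok.2
      (chunks_sound hV part23 part23_ok.1 part23_ok.2
      (chunks_sound hV part22 part22_ok.1 part22_ok.2
      (chunks_sound hV part21 part21_ok.1 part21_ok.2
      (chunks_sound hV part20 part20_ok.1 part20_ok.2
      (chunks_sound hV part19 part19_ok.1 part19_ok.2
      (chunks_sound hV part18 part18_ok.1 part18_ok.2
      (chunks_sound hV part17 part17_ok.1 part17_ok.2
      (chunks_sound hV part16 part16_ok.1 part16_ok.2
      (chunks_sound hV part15 part15_ok.1 part15_ok.2
      (chunks_sound hV part14 part14_ok.1 part14_ok.2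
      (chunks_sound hV part13 part13_ok.1 part13_ok.2
      (chunks_sound hV part12 part12_ok.1 part12_ok.2
      (chunks_sound hV part11 part11_ok.1 part11_ok.2
      (chunks_sound hV part10 part10_ok.1 part10_ok.2
      (chunks_sound hV part9 part9_ok.1 part9_ok.2
      (chunks_sound hV part8 part8_ok.1 part8_ok.2
      (chunks_sound hV part7 part7_ok.1 part7_ok.2
      (chunks_sound hV part6 part6_ok.1 part6_ok.2
      (chunks_sound hV part5 part5_ok.1 part5_ok.2
      (chunks_sound hV part4 part4_ok.1 part4_ok.2
      (chunks_sound hV part3 part3_ok.1 part3_ok.2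
      (chunks_sound hV part2 part2_ok.1 part2_ok.2
      (chunks_sound hV part1 part1_ok.1 part1_ok.2
      (chunks_sound hV part0 part0_ok.1 part0_ok.2
      (fun i hi => good_defs defs_ok hi)))))))))))))))))))))))))))))))))))))))))))))))))))))))))))))))))))))))))))))))))))))

theorem edges_ok : edgesOK data 172418 28160 table vert edge = true :=
  (allBelow_add (allBelow_add (allBelow_add (allBelow_add (allBelow_add (allBelow_add (allBelow_add (rfl : allBelow 0 (edgeAt data 172418 28160 table vert edge) = true) edges_part0
    (by omega : 0 + 4444 = 4444)) edges_part1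
    (by omega : 4444 + 4444 = 8888)) edges_part2
    (by omega : 8888 + 4444 = 13332)) edges_part3
    (by omega : 13332 + 4444 = 17776)) edges_part4
    (by omega : 17776 + 4444 = 22220)) edges_part5
    (by omega : 22220 + 4444 = 26664)) edges_part6
    (by omega : 26664 + 1496 = 28160))

end Cfsg.Agent.Lib.Spider.NineCert
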