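import Cfsg.Agent.Lib.Spider.Defs
import Cfsg.Agent.Lib.Spider.NineCert
import Cfsg.Agent.Lib.CosetEnum.Fi23Chain.L8

/-!
The group on nine nodes has order at most 258247006617600: the chain of certificates of Fi23 works
without the relation of type E7, and one more enumeration gives 28160 cosets.
-/

set_option autoImplicit false
set_option maxRecDepth 20000
set_option Elab.async false

namespace Cfsg.Agent.Lib.Spider.Chain

open Cfsg.Agent.Lib.CosetEnum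

theorem le3 :
    Nat.card (subOf lettersNine presNine ([3, 4, 5].map fun g => [g])) ≠ 0 ∧
    Nat.card (subOf lettersNine presNine ([3, 4, 5].map fun g => [g])) ≤ 24 :=
  card_le_of_enum lettersNine presNine (invPres_mem _ _ _) lettersNine_ok lettersNine_col [3, 4, 5]
    Cfsg.Agent.Lib.CosetEnum.Fi23Chain.L3.data 23 36 24 Cfsg.Agent.Lib.CosetEnum.Fi23Chain.L3.table Cfsg.Agent.Lib.CosetEnum.Fi23Chain.L3.vert Cfsg.Agent.Lib.CosetEnum.Fi23Chain.L3.edge (by omega) rfl (by decide +kernel) (by decide +kernel)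
    (by decide +kernel) [[],
    [0, 1, 0, 1, 0, 1],
    [0, 2, 0, 2],
    [1, 2, 1, 2, 1, 2],
    [0, 0],
    [1, 1],
    [2, 2]] []
    (by decide +kernel) (by decide +kernel) rfl rfl (by decide +kernel)
    (fun φ H hV => Cfsg.Agent.Lib.CosetEnum.Fi23Chain.L3.good _ _ φ H hV) (by decide +kernel) Cfsg.Agent.Lib.CosetEnum.Fi23Chain.L3.edges_ok 1 (card_subOf_nil _ _)

theorem le4 :
    Nat.card (subOf lettersNine presNine ([3, 4, 5, 7].map fun g => [g])) ≠ 0 ∧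
    Nat.card (subOf lettersNine presNine ([3, 4, 5, 7].map fun g => [g])) ≤ 120 :=
  card_le_of_enum lettersNine presNine (invPres_mem _ _ _) lettersNine_ok lettersNine_col [3, 4, 5, 7]
    Cfsg.Agent.Lib.CosetEnum.Fi23Chain.L4.data 4 16 5 Cfsg.Agent.Lib.CosetEnum.Fi23Chain.L4.table Cfsg.Agent.Lib.CosetEnum.Fi23Chain.L4.vert Cfsg.Agent.Lib.CosetEnum.Fi23Chain.L4.edge (by omega) rfl (by decide +kernel) (by decide +kernel)
    (by decide +kernel) [[],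
    [0, 1, 0, 1, 0, 1],
    [0, 2, 0, 2],
    [0, 3, 0, 3, 0, 3],
    [1, 2, 1, 2, 1, 2],
    [1, 3, 1, 3],
    [2, 3, 2, 3],
    [0, 0],
    [1, 1],
    [2, 2],
    [3, 3]] [[0],
    [1],
    [2]]
    (by decide +kernel) (by decide +kernel) rfl rfl (by decide +kernel)
    (fun φ H hV => Cfsg.Agent.Lib.CosetEnum.Fi23Chain.L4.good _ _ φ H hV) (by decide +kernel) Cfsg.Agent.Lib.CosetEnum.Fi23Chain.L4.edges_ok 24 le3

theorem le5 :
    Nat.card (subOf lettersNine presNine ([2, 3, 4, 5, 7].map fun g => [g])) ≠ 0 ∧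
    Nat.card (subOf lettersNine presNine ([2, 3, 4, 5, 7].map fun g => [g])) ≤ 1920 :=
  card_le_of_enum lettersNine presNine (invPres_mem _ _ _) lettersNine_ok lettersNine_col [2, 3, 4, 5, 7]
    Cfsg.Agent.Lib.CosetEnum.Fi23Chain.L5.data 15 60 16 Cfsg.Agent.Lib.CosetEnum.Fi23Chain.L5.table Cfsg.Agent.Lib.CosetEnum.Fi23Chain.L5.vert Cfsg.Agent.Lib.CosetEnum.Fi23Chain.L5.edge (by omega) rfl (by decide +kernel) (by decide +kernel)
    (by decide +kernel) [[],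
    [0, 1, 0, 1, 0, 1],
    [0, 2, 0, 2],
    [0, 3, 0, 3],
    [0, 4, 0, 4],
    [1, 2, 1, 2, 1, 2],
    [1, 3, 1, 3],
    [1, 4, 1, 4, 1, 4],
    [2, 3, 2, 3, 2, 3],
    [2, 4, 2, 4],
    [3, 4, 3, 4],
    [0, 0],
    [1, 1],
    [2, 2],
    [3, 3],
    [4, 4]] [[1],
    [2],
    [3],
    [4]]
    (by decide +kernel) (by decide +kernel) rfl rfl (by decide +kernel)
    (fun φ H hV => Cfsg.Agent.Lib.CosetEnum.Fi23Chain.L5.good _ _ φ H hV) (by decide +kernel) Cfsg.Agent.Lib.CosetEnum.Fi23Chain.L5.edges_ok 120 le4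

theorem le6 :
    Nat.card (subOf lettersNine presNine ([1, 2, 3, 4, 5, 7].map fun g => [g])) ≠ 0 ∧
    Nat.card (subOf lettersNine presNine ([1, 2, 3, 4, 5, 7].map fun g => [g])) ≤ 51840 :=
  card_le_of_enum lettersNine presNine (invPres_mem _ _ _) lettersNine_ok lettersNine_col [1, 2, 3, 4, 5, 7]
    Cfsg.Agent.Lib.CosetEnum.Fi23Chain.L6.data 26 126 27 Cfsg.Agent.Lib.CosetEnum.Fi23Chain.L6.table Cfsg.Agent.Lib.CosetEnum.Fi23Chain.L6.vert Cfsg.Agent.Lib.CosetEnum.Fi23Chain.L6.edge (by omega) rfl (by decide +kernel) (by decide +kernel)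
    (by decide +kernel) [[],
    [0, 1, 0, 1, 0, 1],
    [0, 2, 0, 2],
    [0, 3, 0, 3],
    [0, 4, 0, 4],
    [0, 5, 0, 5],
    [1, 2, 1, 2, 1, 2],
    [1, 3, 1, 3],
    [1, 4, 1, 4],
    [1, 5, 1, 5],
    [2, 3, 2, 3, 2, 3],
    [2, 4, 2, 4],
    [2, 5, 2, 5, 2, 5],
    [3, 4, 3, 4, 3, 4],
    [3, 5, 3, 5],
    [4, 5, 4, 5],
    [0, 0],
    [1, 1],
    [2, 2],
    [3, 3],
    [4, 4],
    [5, 5]] [[1],
    [2],
    [3],
    [4],
    [5]]
    (by decide +kernel) (by decide +kernel) rfl rfl (by decide +kernel)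
    (fun φ H hV => Cfsg.Agent.Lib.CosetEnum.Fi23Chain.L6.good _ _ φ H hV) (by decide +kernel) Cfsg.Agent.Lib.CosetEnum.Fi23Chain.L6.edges_ok 1920 le5

theorem le7 :
    Nat.card (subOf lettersNine presNine ([1, 2, 3, 4, 5, 6, 7].map fun g => [g])) ≠ 0 ∧
    Nat.card (subOf lettersNine presNine ([1, 2, 3, 4, 5, 6, 7].map fun g => [g])) ≤ 2903040 :=
  card_le_of_enum lettersNine presNine (invPres_mem _ _ _) lettersNine_ok lettersNine_col [1, 2, 3, 4, 5, 6, 7]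
    Cfsg.Agent.Lib.CosetEnum.Fi23Chain.L7.data 55 308 56 Cfsg.Agent.Lib.CosetEnum.Fi23Chain.L7.table Cfsg.Agent.Lib.CosetEnum.Fi23Chain.L7.vert Cfsg.Agent.Lib.CosetEnum.Fi23Chain.L7.edge (by omega) rfl (by decide +kernel) (by decide +kernel)
    (by decide +kernel) [[],
    [0, 1, 0, 1, 0, 1],
    [0, 2, 0, 2],
    [0, 3, 0, 3],
    [0, 4, 0, 4],
    [0, 5, 0, 5],
    [0, 6, 0, 6],
    [1, 2, 1, 2, 1, 2],
    [1, 3, 1, 3],
    [1, 4, 1, 4],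
    [1, 5, 1, 5],
    [1, 6, 1, 6],
    [2, 3, 2, 3, 2, 3],
    [2, 4, 2, 4],
    [2, 5, 2, 5],
    [2, 6, 2, 6, 2, 6],
    [3, 4, 3, 4, 3, 4],
    [3, 5, 3, 5],
    [3, 6, 3, 6],
    [4, 5, 4, 5, 4, 5],
    [4, 6, 4, 6],
    [5, 6, 5, 6],
    [0, 0],
    [1, 1],
    [2, 2],
    [3, 3],
    [4, 4],
    [5, 5],
    [6, 6]] [[0],
    [1],
    [2],
    [3],
    [4],
    [6]]
    (by decide +kernel) (by decide +kernel) rfl rfl (by decide +kernel)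
    (fun φ H hV => Cfsg.Agent.Lib.CosetEnum.Fi23Chain.L7.good _ _ φ H hV) (by decide +kernel) Cfsg.Agent.Lib.CosetEnum.Fi23Chain.L7.edges_ok 51840 le6

theorem le8 :
    Nat.card (subOf lettersNine presNine ([1, 2, 3, 4, 5, 6, 7, 8].map fun g => [g])) ≠ 0 ∧
    Nat.card (subOf lettersNine presNine ([1, 2, 3, 4, 5, 6, 7, 8].map fun g => [g])) ≤ 9170703360 :=
  card_le_of_enum lettersNine presNine (invPres_mem _ _ _) lettersNine_ok lettersNine_col [1, 2, 3, 4, 5, 6, 7, 8]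
    Cfsg.Agent.Lib.CosetEnum.Fi23Chain.L8.data 9368 37656 3159 Cfsg.Agent.Lib.CosetEnum.Fi23Chain.L8.table Cfsg.Agent.Lib.CosetEnum.Fi23Chain.L8.vert Cfsg.Agent.Lib.CosetEnum.Fi23Chain.L8.edge (by omega) rfl (by decide +kernel) (by decide +kernel)
    (by decide +kernel) [[],
    [0, 1, 0, 1, 0, 1],
    [0, 2, 0, 2],
    [0, 3, 0, 3],
    [0, 4, 0, 4],
    [0, 5, 0, 5],
    [0, 6, 0, 6],
    [0, 7, 0, 7],
    [1, 2, 1, 2, 1, 2],
    [1, 3, 1, 3],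
    [1, 4, 1, 4],
    [1, 5, 1, 5],
    [1, 6, 1, 6],
    [1, 7, 1, 7],
    [2, 3, 2, 3, 2, 3],
    [2, 4, 2, 4],
    [2, 5, 2, 5],
    [2, 6, 2, 6, 2, 6],
    [2, 7, 2, 7],
    [3, 4, 3, 4, 3, 4],
    [3, 5, 3, 5],
    [3, 6, 3, 6],
    [3, 7, 3, 7],
    [4, 5, 4, 5, 4, 5],
    [4, 6, 4, 6],
    [4, 7, 4, 7],
    [5, 6, 5, 6],
    [5, 7, 5, 7],
    [6, 7, 6, 7, 6, 7],
    [2, 1, 0, 2, 3, 4, 2, 6, 7, 2, 1, 0, 2, 3, 4, 2, 6, 7, 2, 1, 0, 2, 3, 4, 2, 6, 7, 2, 1, 0, 2, 3, 4, 2, 6, 7, 2, 1, 0, 2, 3, 4, 2, 6, 7, 2, 1, 0, 2, 3, 4, 2, 6, 7, 2, 1, 0, 2, 3, 4, 2, 6, 7, 2, 1, 0, 2, 3, 4, 2, 6, 7, 2, 1, 0, 2, 3, 4, 2, 6, 7, 2, 1, 0, 2, 3, 4, 2, 6, 7],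
    [0, 0],
    [1, 1],
    [2, 2],
    [3, 3],
    [4, 4],
    [5, 5],
    [6, 6],
    [7, 7]] [[0],
    [1],
    [2],
    [3],
    [4],
    [5],
    [6]]
    (by decide +kernel) (by decide +kernel) rfl rfl (by decide +kernel)
    (fun φ H hV => Cfsg.Agent.Lib.CosetEnum.Fi23Chain.L8.good _ _ φ H hV) (by decide +kernel) Cfsg.Agent.Lib.CosetEnum.Fi23Chain.L8.edges_ok 2903040 le7

theorem eight : Nat.card (subOf lettersNine presNine ([[0],
    [1],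
    [2],
    [3],
    [4],
    [5],
    [6],
    [7]].map (embWord [5, 1, 2, 3, 4, 8, 7, 6, 0]))) ≠ 0 ∧
    Nat.card (subOf lettersNine presNine ([[0],
    [1],
    [2],
    [3],
    [4],
    [5],
    [6],
    [7]].map (embWord [5, 1, 2, 3, 4, 8, 7, 6, 0]))) ≤ 9170703360 := by
  have h : subOf lettersNine presNine ([[0],
    [1],
    [2],
    [3],
    [4],
    [5],
    [6],
    [7]].map (embWord [5, 1, 2, 3, 4, 8, 7, 6, 0])) =
      subOf lettersNine presNine ([1, 2, 3, 4, 5, 6, 7, 8].map fun g => [g]) := by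
    unfold subOf
    congr 1
    ext x
    have hiff : ∀ l : List ℕ, l ∈ [[0],
    [1],
    [2],
    [3],
    [4],
    [5],
    [6],
    [7]].map (embWord [5, 1, 2, 3, 4, 8, 7, 6, 0]) ↔
        l ∈ [1, 2, 3, 4, 5, 6, 7, 8].map fun g => [g] := fun l =>
      ⟨(by decide +kernel : ∀ a ∈ [[0],
    [1],
    [2],
    [3],
    [4],
    [5],
    [6],
    [7]].map (embWord [5, 1, 2, 3, 4, 8, 7, 6, 0]),
          a ∈ [1, 2, 3, 4, 5, 6, 7, 8].map fun g => [g]) l,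
        (by decide +kernel : ∀ a ∈ ([1, 2, 3, 4, 5, 6, 7, 8].map fun g => [g]),
          a ∈ [[0],
    [1],
    [2],
    [3],
    [4],
    [5],
    [6],
    [7]].map (embWord [5, 1, 2, 3, 4, 8, 7, 6, 0])) l⟩
    simp only [Set.mem_setOf_eq, hiff]
  rw [h]
  exact le8

theorem le9 :
    Nat.card (subOf lettersNine presNine ([5, 1, 2, 3, 4, 8, 7, 6, 0].map fun g => [g])) ≠ 0 ∧
    Nat.card (subOf lettersNine presNine ([5, 1, 2, 3, 4, 8, 7, 6, 0].map fun g => [g])) ≤ 258247006617600 :=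
  card_le_of_enum lettersNine presNine (invPres_mem _ _ _) lettersNine_ok lettersNine_col [5, 1, 2, 3, 4, 8, 7, 6, 0]
    NineCert.data 38318 172418 28160 NineCert.table NineCert.vert NineCert.edge (by omega) rfl
    (by decide +kernel) (by decide +kernel) (by decide +kernel) [[],
    [0, 1, 0, 1],
    [0, 2, 0, 2],
    [0, 3, 0, 3],
    [0, 4, 0, 4, 0, 4],
    [0, 5, 0, 5],
    [0, 6, 0, 6],
    [0, 7, 0, 7, 0, 7],
    [0, 8, 0, 8],
    [1, 2, 1, 2, 1, 2],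
    [1, 3, 1, 3],
    [1, 4, 1, 4],
    [1, 5, 1, 5],
    [1, 6, 1, 6],
    [1, 7, 1, 7],
    [1, 8, 1, 8, 1, 8],
    [2, 3, 2, 3, 2, 3],
    [2, 4, 2, 4],
    [2, 5, 2, 5],
    [2, 6, 2, 6],
    [2, 7, 2, 7],
    [2, 8, 2, 8],
    [3, 4, 3, 4, 3, 4],
    [3, 5, 3, 5],
    [3, 6, 3, 6, 3, 6],
    [3, 7, 3, 7],
    [3, 8, 3, 8],
    [4, 5, 4, 5],
    [4, 6, 4, 6],
    [4, 7, 4, 7],
    [4, 8, 4, 8],
    [5, 6, 5, 6, 5, 6],
    [5, 7, 5, 7],
    [5, 8, 5, 8],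
    [6, 7, 6, 7],
    [6, 8, 6, 8],
    [7, 8, 7, 8],
    [3, 2, 1, 3, 4, 0, 3, 6, 5, 3, 2, 1, 3, 4, 0, 3, 6, 5, 3, 2, 1, 3, 4, 0, 3, 6, 5, 3, 2, 1, 3, 4, 0, 3, 6, 5, 3, 2, 1, 3, 4, 0, 3, 6, 5, 3, 2, 1, 3, 4, 0, 3, 6, 5, 3, 2, 1, 3, 4, 0, 3, 6, 5, 3, 2, 1, 3, 4, 0, 3, 6, 5, 3, 2, 1, 3, 4, 0, 3, 6, 5, 3, 2, 1, 3, 4, 0, 3, 6, 5],
    [0, 0],
    [1, 1],
    [2, 2],
    [3, 3],
    [4, 4],
    [5, 5],
    [6, 6],
    [7, 7],
    [8, 8]] [[0],
    [1],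
    [2],
    [3],
    [4],
    [5],
    [6],
    [7]]
    (by decide +kernel) (by decide +kernel) rfl rfl (by decide +kernel)
    (fun φ H hV => NineCert.good _ _ φ H hV) (by decide +kernel) NineCert.edges_ok 9170703360 eight

/-- The group on nine nodes has order at most 258247006617600. -/
theorem card_le : Nat.card (PresentedGroup presNine) ≠ 0 ∧
    Nat.card (PresentedGroup presNine) ≤ 258247006617600 := by
  have h := subOf_range_eq_top lettersNine presNine lettersNine_col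
  have hp : subOf lettersNine presNine ([5, 1, 2, 3, 4, 8, 7, 6, 0].map fun g => [g]) = ⊤ := by
    rw [eq_top_iff, ← h]
    refine Subgroup.closure_mono ?_
    rintro x ⟨l, hl, rfl⟩
    exact ⟨l, (by decide +kernel : ∀ a ∈ ((List.range 9).map fun g => [g]),
      a ∈ [5, 1, 2, 3, 4, 8, 7, 6, 0].map fun g => [g]) l hl, rfl⟩
  have := le9
  rwa [hp, Subgroup.card_top] at this

end Cfsg.Agent.Lib.Spider.Chain
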