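import Cfsg.Agent.Lib.CosetEnum.Ident

/-!
Relator lists for the spider diagrams: eleven, ten and nine nodes, Coxeter relations and one spider
relation.
-/

set_option autoImplicit false
set_option maxRecDepth 20000
set_option Elab.async false

namespace Cfsg.Agent.Lib.Spider

open Cfsg.Agent.Lib.CosetEnum

/-- The relators on the nodes a, b, c, d, e, f, g, j, h, i of Fi23 and a node k joined to j. -/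
def relsEleven : List (List ℕ) := [[],
    [0, 1, 0, 1, 0, 1],
    [0, 2, 0, 2],
    [0, 3, 0, 3],
    [0, 4, 0, 4],
    [0, 5, 0, 5],
    [0, 6, 0, 6],
    [0, 7, 0, 7],
    [0, 8, 0, 8],
    [0, 9, 0, 9],
    [0, 10, 0, 10],
    [1, 0, 1, 0, 1, 0],
    [1, 2, 1, 2, 1, 2],
    [1, 3, 1, 3],
    [1, 4, 1, 4],
    [1, 5, 1, 5],
    [1, 6, 1, 6],
    [1, 7, 1, 7],
    [1, 8, 1, 8],
    [1, 9, 1, 9],
    [1, 10, 1, 10],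
    [2, 0, 2, 0],
    [2, 1, 2, 1, 2, 1],
    [2, 3, 2, 3, 2, 3],
    [2, 4, 2, 4],
    [2, 5, 2, 5],
    [2, 6, 2, 6],
    [2, 7, 2, 7],
    [2, 8, 2, 8],
    [2, 9, 2, 9],
    [2, 10, 2, 10],
    [3, 0, 3, 0],
    [3, 1, 3, 1],
    [3, 2, 3, 2, 3, 2],
    [3, 4, 3, 4, 3, 4],
    [3, 5, 3, 5],
    [3, 6, 3, 6],
    [3, 7, 3, 7],
    [3, 8, 3, 8, 3, 8],
    [3, 9, 3, 9],
    [3, 10, 3, 10],
    [4, 0, 4, 0],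
    [4, 1, 4, 1],
    [4, 2, 4, 2],
    [4, 3, 4, 3, 4, 3],
    [4, 5, 4, 5, 4, 5],
    [4, 6, 4, 6],
    [4, 7, 4, 7],
    [4, 8, 4, 8],
    [4, 9, 4, 9],
    [4, 10, 4, 10],
    [5, 0, 5, 0],
    [5, 1, 5, 1],
    [5, 2, 5, 2],
    [5, 3, 5, 3],
    [5, 4, 5, 4, 5, 4],
    [5, 6, 5, 6, 5, 6],
    [5, 7, 5, 7],
    [5, 8, 5, 8],
    [5, 9, 5, 9],
    [5, 10, 5, 10],
    [6, 0, 6, 0],
    [6, 1, 6, 1],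
    [6, 2, 6, 2],
    [6, 3, 6, 3],
    [6, 4, 6, 4],
    [6, 5, 6, 5, 6, 5],
    [6, 7, 6, 7, 6, 7],
    [6, 8, 6, 8],
    [6, 9, 6, 9],
    [6, 10, 6, 10],
    [7, 0, 7, 0],
    [7, 1, 7, 1],
    [7, 2, 7, 2],
    [7, 3, 7, 3],
    [7, 4, 7, 4],
    [7, 5, 7, 5],
    [7, 6, 7, 6, 7, 6],
    [7, 8, 7, 8],
    [7, 9, 7, 9],
    [7, 10, 7, 10, 7, 10],
    [8, 0, 8, 0],
    [8, 1, 8, 1],
    [8, 2, 8, 2],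
    [8, 3, 8, 3, 8, 3],
    [8, 4, 8, 4],
    [8, 5, 8, 5],
    [8, 6, 8, 6],
    [8, 7, 8, 7],
    [8, 9, 8, 9, 8, 9],
    [8, 10, 8, 10],
    [9, 0, 9, 0],
    [9, 1, 9, 1],
    [9, 2, 9, 2],
    [9, 3, 9, 3],
    [9, 4, 9, 4],
    [9, 5, 9, 5],
    [9, 6, 9, 6],
    [9, 7, 9, 7],
    [9, 8, 9, 8, 9, 8],
    [9, 10, 9, 10],
    [10, 0, 10, 0],
    [10, 1, 10, 1],
    [10, 2, 10, 2],
    [10, 3, 10, 3],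
    [10, 4, 10, 4],
    [10, 5, 10, 5],
    [10, 6, 10, 6],
    [10, 7, 10, 7, 10, 7],
    [10, 8, 10, 8],
    [10, 9, 10, 9],
    [3, 2, 1, 3, 4, 5, 3, 8, 9, 3, 2, 1, 3, 4, 5, 3, 8, 9, 3, 2, 1, 3, 4, 5, 3, 8, 9, 3, 2, 1, 3, 4, 5, 3, 8, 9, 3, 2, 1, 3, 4, 5, 3, 8, 9, 3, 2, 1, 3, 4, 5, 3, 8, 9, 3, 2, 1, 3, 4, 5, 3, 8, 9, 3, 2, 1, 3, 4, 5, 3, 8, 9, 3, 2, 1, 3, 4, 5, 3, 8, 9, 3, 2, 1, 3, 4, 5, 3, 8, 9],
    [0, 0],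
    [1, 1],
    [2, 2],
    [3, 3],
    [4, 4],
    [5, 5],
    [6, 6],
    [7, 7],
    [8, 8],
    [9, 9],
    [10, 10]]

/-- The relators on the ten nodes of Fi23. -/
def relsTen : List (List ℕ) := [[],
    [0, 1, 0, 1, 0, 1],
    [0, 2, 0, 2],
    [0, 3, 0, 3],
    [0, 4, 0, 4],
    [0, 5, 0, 5],
    [0, 6, 0, 6],
    [0, 7, 0, 7],
    [0, 8, 0, 8],
    [0, 9, 0, 9],
    [1, 0, 1, 0, 1, 0],
    [1, 2, 1, 2, 1, 2],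
    [1, 3, 1, 3],
    [1, 4, 1, 4],
    [1, 5, 1, 5],
    [1, 6, 1, 6],
    [1, 7, 1, 7],
    [1, 8, 1, 8],
    [1, 9, 1, 9],
    [2, 0, 2, 0],
    [2, 1, 2, 1, 2, 1],
    [2, 3, 2, 3, 2, 3],
    [2, 4, 2, 4],
    [2, 5, 2, 5],
    [2, 6, 2, 6],
    [2, 7, 2, 7],
    [2, 8, 2, 8],
    [2, 9, 2, 9],
    [3, 0, 3, 0],
    [3, 1, 3, 1],
    [3, 2, 3, 2, 3, 2],
    [3, 4, 3, 4, 3, 4],
    [3, 5, 3, 5],
    [3, 6, 3, 6],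
    [3, 7, 3, 7],
    [3, 8, 3, 8, 3, 8],
    [3, 9, 3, 9],
    [4, 0, 4, 0],
    [4, 1, 4, 1],
    [4, 2, 4, 2],
    [4, 3, 4, 3, 4, 3],
    [4, 5, 4, 5, 4, 5],
    [4, 6, 4, 6],
    [4, 7, 4, 7],
    [4, 8, 4, 8],
    [4, 9, 4, 9],
    [5, 0, 5, 0],
    [5, 1, 5, 1],
    [5, 2, 5, 2],
    [5, 3, 5, 3],
    [5, 4, 5, 4, 5, 4],
    [5, 6, 5, 6, 5, 6],
    [5, 7, 5, 7],
    [5, 8, 5, 8],
    [5, 9, 5, 9],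
    [6, 0, 6, 0],
    [6, 1, 6, 1],
    [6, 2, 6, 2],
    [6, 3, 6, 3],
    [6, 4, 6, 4],
    [6, 5, 6, 5, 6, 5],
    [6, 7, 6, 7, 6, 7],
    [6, 8, 6, 8],
    [6, 9, 6, 9],
    [7, 0, 7, 0],
    [7, 1, 7, 1],
    [7, 2, 7, 2],
    [7, 3, 7, 3],
    [7, 4, 7, 4],
    [7, 5, 7, 5],
    [7, 6, 7, 6, 7, 6],
    [7, 8, 7, 8],
    [7, 9, 7, 9],
    [8, 0, 8, 0],
    [8, 1, 8, 1],
    [8, 2, 8, 2],
    [8, 3, 8, 3, 8, 3],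
    [8, 4, 8, 4],
    [8, 5, 8, 5],
    [8, 6, 8, 6],
    [8, 7, 8, 7],
    [8, 9, 8, 9, 8, 9],
    [9, 0, 9, 0],
    [9, 1, 9, 1],
    [9, 2, 9, 2],
    [9, 3, 9, 3],
    [9, 4, 9, 4],
    [9, 5, 9, 5],
    [9, 6, 9, 6],
    [9, 7, 9, 7],
    [9, 8, 9, 8, 9, 8],
    [3, 2, 1, 3, 4, 5, 3, 8, 9, 3, 2, 1, 3, 4, 5, 3, 8, 9, 3, 2, 1, 3, 4, 5, 3, 8, 9, 3, 2, 1, 3, 4, 5, 3, 8, 9, 3, 2, 1, 3, 4, 5, 3, 8, 9, 3, 2, 1, 3, 4, 5, 3, 8, 9, 3, 2, 1, 3, 4, 5, 3, 8, 9, 3, 2, 1, 3, 4, 5, 3, 8, 9, 3, 2, 1, 3, 4, 5, 3, 8, 9, 3, 2, 1, 3, 4, 5, 3, 8, 9],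
    [0, 0],
    [1, 1],
    [2, 2],
    [3, 3],
    [4, 4],
    [5, 5],
    [6, 6],
    [7, 7],
    [8, 8],
    [9, 9]]

/-- The relators on the nine nodes a, b, c, d, e, f, g, h, i. -/
def relsNine : List (List ℕ) := [[],
    [0, 1, 0, 1, 0, 1],
    [0, 2, 0, 2],
    [0, 3, 0, 3],
    [0, 4, 0, 4],
    [0, 5, 0, 5],
    [0, 6, 0, 6],
    [0, 7, 0, 7],
    [0, 8, 0, 8],
    [1, 0, 1, 0, 1, 0],
    [1, 2, 1, 2, 1, 2],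
    [1, 3, 1, 3],
    [1, 4, 1, 4],
    [1, 5, 1, 5],
    [1, 6, 1, 6],
    [1, 7, 1, 7],
    [1, 8, 1, 8],
    [2, 0, 2, 0],
    [2, 1, 2, 1, 2, 1],
    [2, 3, 2, 3, 2, 3],
    [2, 4, 2, 4],
    [2, 5, 2, 5],
    [2, 6, 2, 6],
    [2, 7, 2, 7],
    [2, 8, 2, 8],
    [3, 0, 3, 0],
    [3, 1, 3, 1],
    [3, 2, 3, 2, 3, 2],
    [3, 4, 3, 4, 3, 4],
    [3, 5, 3, 5],
    [3, 6, 3, 6],
    [3, 7, 3, 7, 3, 7],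
    [3, 8, 3, 8],
    [4, 0, 4, 0],
    [4, 1, 4, 1],
    [4, 2, 4, 2],
    [4, 3, 4, 3, 4, 3],
    [4, 5, 4, 5, 4, 5],
    [4, 6, 4, 6],
    [4, 7, 4, 7],
    [4, 8, 4, 8],
    [5, 0, 5, 0],
    [5, 1, 5, 1],
    [5, 2, 5, 2],
    [5, 3, 5, 3],
    [5, 4, 5, 4, 5, 4],
    [5, 6, 5, 6, 5, 6],
    [5, 7, 5, 7],
    [5, 8, 5, 8],
    [6, 0, 6, 0],
    [6, 1, 6, 1],
    [6, 2, 6, 2],
    [6, 3, 6, 3],
    [6, 4, 6, 4],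
    [6, 5, 6, 5, 6, 5],
    [6, 7, 6, 7],
    [6, 8, 6, 8],
    [7, 0, 7, 0],
    [7, 1, 7, 1],
    [7, 2, 7, 2],
    [7, 3, 7, 3, 7, 3],
    [7, 4, 7, 4],
    [7, 5, 7, 5],
    [7, 6, 7, 6],
    [7, 8, 7, 8, 7, 8],
    [8, 0, 8, 0],
    [8, 1, 8, 1],
    [8, 2, 8, 2],
    [8, 3, 8, 3],
    [8, 4, 8, 4],
    [8, 5, 8, 5],
    [8, 6, 8, 6],
    [8, 7, 8, 7, 8, 7],
    [3, 2, 1, 3, 4, 5, 3, 7, 8, 3, 2, 1, 3, 4, 5, 3, 7, 8, 3, 2, 1, 3, 4, 5, 3, 7, 8, 3, 2, 1, 3, 4, 5, 3, 7, 8, 3, 2, 1, 3, 4, 5, 3, 7, 8, 3, 2, 1, 3, 4, 5, 3, 7, 8, 3, 2, 1, 3, 4, 5, 3, 7, 8, 3, 2, 1, 3, 4, 5, 3, 7, 8, 3, 2, 1, 3, 4, 5, 3, 7, 8, 3, 2, 1, 3, 4, 5, 3, 7, 8],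
    [0, 0],
    [1, 1],
    [2, 2],
    [3, 3],
    [4, 4],
    [5, 5],
    [6, 6],
    [7, 7],
    [8, 8]]

/-- The letters of the ten nodes. -/
noncomputable abbrev lettersTen : Letters (Fin 10) := invLetters 9 0x2928398a418820 relsTen

/-- The relators of the ten nodes. -/
abbrev presTen : Set (FreeGroup (Fin 10)) := invPres 9 0x2928398a418820 relsTen

theorem lettersTen_ok : lettersTen.OK :=
  invLetters_ok (by omega) (by decide +kernel) (by decide +kernel) (by decide +kernel)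

theorem lettersTen_col : ∀ a, lettersTen.col a < lettersTen.K ∧ lettersTen.sym (lettersTen.col a) = (a, true) :=
  invLetters_col _ _ _

/-- The letters of the nine nodes. -/
noncomputable abbrev lettersNine : Letters (Fin 9) := invLetters 8 0x128398a418820 relsNine

/-- The relators of the nine nodes. -/
abbrev presNine : Set (FreeGroup (Fin 9)) := invPres 8 0x128398a418820 relsNine

theorem lettersNine_ok : lettersNine.OK :=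
  invLetters_ok (by omega) (by decide +kernel) (by decide +kernel) (by decide +kernel)

theorem lettersNine_col : ∀ a, lettersNine.col a < lettersNine.K ∧ lettersNine.sym (lettersNine.col a) = (a, true) :=
  invLetters_col _ _ _

end Cfsg.Agent.Lib.Spider
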